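import Groth.Agent.PicThk27.Root
import Groth.Agent.Units14.Basic
import Groth.Agent.PicDef15.ClosedFibre
import Groth.Prelude.Def_PicGrp

/-!
# Invertible classes on a flat proper scheme over a complete unramified base, and on its thickenings

For `A` complete with maximal ideal `(p)`, `p` an odd prime, the classes trivial modulo `p ^ (i+1)` are
`p ^ i`-th powers.
-/

set_option autoImplicit false
set_option linter.style.haveILetI false
set_option backward.isDefEq.respectTransparency.types false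
set_option maxHeartbeats 1000000

universe u

open CategoryTheory CategoryTheory.Limits AlgebraicGeometry Opposite TopologicalSpace
open Groth.Agent.Coherent Groth.Agent.Coherent.Serre Groth.Agent.Coherent.Existence Groth.Agent.PicLib
open Groth.Agent.AmpleLib Groth.Agent.Models7

noncomputable section

namespace Groth.Agent.PicThk27

variable {A : Type u} [CommRing A] {X : Scheme.{u}} (f : X ⟶ Spec (CommRingCat.of A)) (I : Ideal A)

/-- The morphism between two thickenings. -/
def tr {a b : ℕ} (h : a ≤ b) : CohB1.thick f I a ⟶ CohB1.thick f I b :=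
  pullback.lift (CohB1.thickι f I a) (CohB1.thickToBase f I a ≫
    Spec.map (CommRingCat.ofHom (Ideal.Quotient.factor (Ideal.pow_le_pow_right (Nat.succ_le_succ h) (I := I)))))
    (by
      rw [Category.assoc, CohB1.specQuot, ← Spec.map_comp, ← CommRingCat.ofHom_comp, Ideal.Quotient.factor_comp_mk]
      exact pullback.condition)

theorem tr_thickι {a b : ℕ} (h : a ≤ b) : tr f I h ≫ CohB1.thickι f I b = CohB1.thickι f I a :=
  pullback.lift_fst _ _ _

theorem tr_tr {a b c : ℕ} (h : a ≤ b) (h' : b ≤ c) : tr f I h ≫ tr f I h' = tr f I (h.trans h') := by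
  have := isClosedImmersion_thickι f I c
  rw [← cancel_mono (CohB1.thickι f I c), Category.assoc, tr_thickι, tr_thickι, tr_thickι]

theorem tr_succ (a : ℕ) : tr f I (Nat.le_succ a) = CohB1.thickTrans f I a := by
  have := isClosedImmersion_thickι f I (a + 1)
  rw [← cancel_mono (CohB1.thickι f I (a + 1)), tr_thickι, thickTrans_thickι]

theorem tr_self (a : ℕ) : tr f I (le_refl a) = 𝟙 _ := by
  have := isClosedImmersion_thickι f I a
  rw [← cancel_mono (CohB1.thickι f I a), tr_thickι, Category.id_comp]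

theorem isClosedImmersion_tr {a b : ℕ} (h : a ≤ b) : IsClosedImmersion (tr f I h) := by
  have := isClosedImmersion_thickι f I b
  have : IsClosedImmersion (tr f I h ≫ CohB1.thickι f I b) := by
    rw [tr_thickι]; exact isClosedImmersion_thickι f I a
  exact IsClosedImmersion.of_comp _ (CohB1.thickι f I b)

theorem range_thickι (a : ℕ) : Set.range (CohB1.thickι f I a) = f ⁻¹' PrimeSpectrum.zeroLocus (I : Set A) := by
  refine (Scheme.Pullback.range_fst f (CohB1.specQuot I a)).trans ?_
  refine congrArg (f ⁻¹' ·) ?_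
  refine (range_comap_of_surjective _ _ Ideal.Quotient.mk_surjective).trans ?_
  rw [Ideal.mk_ker, ← PrimeSpectrum.zeroLocus_radical, Ideal.radical_pow _ (Nat.succ_ne_zero a),
    PrimeSpectrum.zeroLocus_radical]

theorem surjective_tr {a b : ℕ} (h : a ≤ b) : Surjective (tr f I h) := by
  have := isClosedImmersion_thickι f I b
  refine ⟨fun y => ?_⟩
  obtain ⟨z, hz⟩ : CohB1.thickι f I b y ∈ Set.range (CohB1.thickι f I a) := by
    rw [range_thickι, ← range_thickι f I b]; exact ⟨y, rfl⟩
  refine ⟨z, (CohB1.thickι f I b).isClosedEmbedding.injective ?_⟩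
  rw [← hz]
  exact congrArg (fun φ : CohB1.thick f I a ⟶ X => φ z) (tr_thickι f I h)

theorem app_app_eq_zero_iff {Z Y : Scheme.{u}} {g : Z ⟶ Y} {w : Y ⟶ X} {w' : Z ⟶ X} (h : g ≫ w = w')
    (V : X.Opens) (b : Γ(X, V)) : g.app (w ⁻¹ᵁ V) (w.app V b) = 0 ↔ w'.app V b = 0 := by
  subst h
  rw [Scheme.Hom.comp_app]
  rfl

variable (p : ℕ)

theorem natCast_pow_eq_zero (hI : I = Ideal.span {(p : A)}) (a : ℕ) (U : (CohB1.thick f I a).Opens) :
    (p : Γ(CohB1.thick f I a, U)) ^ (a + 1) = 0 := by
  have h : Ideal.Quotient.mk (I ^ (a + 1)) ((p : A) ^ (a + 1)) = 0 :=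
    Ideal.Quotient.eq_zero_iff_mem.2 (Ideal.pow_mem_pow (hI ▸ Ideal.mem_span_singleton_self _) _)
  have h2 := congrArg (Units14.al (CohB1.thickToBase f I a) U) h
  simpa only [map_pow, map_natCast, map_zero] using h2

variable [X.IsSeparated]

/-- The affine opens of a thickening coming from the ambient scheme. -/
def Basic (b : ℕ) (U : (CohB1.thick f I b).Opens) : Prop :=
  ∃ V : X.Opens, IsAffineOpen V ∧ U = CohB1.thickι f I b ⁻¹ᵁ V

omit [X.IsSeparated] in
theorem Basic.isAffineOpen {b : ℕ} {U : (CohB1.thick f I b).Opens} (h : Basic f I b U) : IsAffineOpen U := by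
  obtain ⟨V, hV, rfl⟩ := h
  have := isClosedImmersion_thickι f I b
  exact hV.preimage _

theorem Basic.inf {b : ℕ} {U U' : (CohB1.thick f I b).Opens} (h : Basic f I b U) (h' : Basic f I b U') :
    Basic f I b (U ⊓ U') := by
  obtain ⟨V, hV, rfl⟩ := h
  obtain ⟨V', hV', rfl⟩ := h'
  exact ⟨V ⊓ V', hV.inf hV', rfl⟩

omit [X.IsSeparated] in
theorem exists_basic (b : ℕ) (y : CohB1.thick f I b) (O : (CohB1.thick f I b).Opens) (hy : y ∈ O) :
    ∃ U, Basic f I b U ∧ y ∈ U ∧ U ≤ O := by
  have := isClosedImmersion_thickι f I b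
  obtain ⟨O', hO', hOO'⟩ := (CohB1.thickι f I b).isClosedEmbedding.isInducing.isOpen_iff.1 O.isOpen
  obtain ⟨V, hV, hyV, hVO⟩ := exists_isAffineOpen_mem_and_subset (U := (⟨O', hO'⟩ : X.Opens))
    (x := CohB1.thickι f I b y) (show y ∈ CohB1.thickι f I b ⁻¹' O' from hOO'.ge hy)
  exact ⟨_, ⟨V, hV, rfl⟩, hyV, fun z hz => hOO'.le (hVO hz)⟩

omit [X.IsSeparated] in
theorem exists_eq_of_app_tr (hI : I = Ideal.span {(p : A)}) {a b : ℕ} (h : a ≤ b)
    {U : (CohB1.thick f I b).Opens} (hU : Basic f I b U) (y : Γ(CohB1.thick f I b, U))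
    (hy : (tr f I h).app U y = 0) : ∃ z, y = (p : Γ(CohB1.thick f I b, U)) ^ (a + 1) * z := by
  obtain ⟨V, hV, rfl⟩ := hU
  have := isClosedImmersion_thickι f I b
  obtain ⟨r, rfl⟩ := (CohB1.thickι f I b).app_surjective V hV y
  rw [app_app_eq_zero_iff (tr_thickι f I h)] at hy
  have hm := (Units14.mem_iff f (φ := Ideal.Quotient.mk (I ^ (a + 1))) Ideal.Quotient.mk_surjective hV r).1 hy
  rw [Ideal.mk_ker, hI, Ideal.span_singleton_pow, Ideal.map_span, Set.image_singleton, map_pow, map_natCast,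
    Ideal.mem_span_singleton] at hm
  obtain ⟨z, rfl⟩ := hm
  exact ⟨(CohB1.thickι f I b).app V z, by rw [map_mul, map_pow, map_natCast]⟩

omit [X.IsSeparated] in
theorem exists_eq_of_pow_mul [IsDomain A] [Flat f] (hI : I = Ideal.span {(p : A)}) (hp0 : (p : A) ≠ 0) (b : ℕ)
    {U : (CohB1.thick f I b).Opens} (hU : Basic f I b U) (y : Γ(CohB1.thick f I b, U))
    (hy : (p : Γ(CohB1.thick f I b, U)) ^ b * y = 0) : ∃ z, y = (p : Γ(CohB1.thick f I b, U)) * z := by
  obtain ⟨V, hV, rfl⟩ := hU
  have := isClosedImmersion_thickι f I b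
  obtain ⟨r, rfl⟩ := (CohB1.thickι f I b).app_surjective V hV y
  have hcol : ∀ a : A, a * (p : A) ^ b ∈ RingHom.ker (Ideal.Quotient.mk (I ^ (b + 1))) ↔
      a ∈ RingHom.ker (Ideal.Quotient.mk (I ^ (0 + 1))) := fun a => by
    simp only [Ideal.mk_ker, hI, Ideal.span_singleton_pow, Ideal.mem_span_singleton, zero_add, pow_one]
    rw [pow_succ', mul_dvd_mul_iff_right (pow_ne_zero b hp0)]
  have hy' : (CohB1.thickι f I b).app V (Units14.al f V ((p : A) ^ b) * r) = 0 := by
    rw [map_mul, map_pow, map_natCast, map_pow, map_natCast]; exact hy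
  have h0 := (Units14.app_al_mul f (φ' := Ideal.Quotient.mk (I ^ (b + 1))) Ideal.Quotient.mk_surjective
    (φ₀ := Ideal.Quotient.mk (I ^ (0 + 1))) Ideal.Quotient.mk_surjective _ hcol r).1 hy'
  have hm := (Units14.mem_iff f (φ := Ideal.Quotient.mk (I ^ (0 + 1))) Ideal.Quotient.mk_surjective hV r).1 h0
  rw [Ideal.mk_ker, hI, Ideal.span_singleton_pow, Ideal.map_span, Set.image_singleton, map_pow, map_natCast,
    Ideal.mem_span_singleton, zero_add, pow_one] at hm
  obtain ⟨z, rfl⟩ := hm
  exact ⟨(CohB1.thickι f I b).app V z, by rw [map_mul, map_natCast]⟩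

end Groth.Agent.PicThk27

namespace Groth.Agent.PicThk27

open Groth.Agent.PicDef15

variable {A : Type u} [CommRing A] [IsLocalRing A] [IsNoetherianRing A]
  [IsAdicComplete (IsLocalRing.maximalIdeal A) A] {X : Scheme.{u}} (f : X ⟶ Spec (CommRingCat.of A))
  [IsProper f] [Flat f]

/-- Classes on a thickening lift to the whole scheme. -/
theorem exists_pull_eq
    (h2 : Subsingleton (Coh.HH (CohB1.thick f (IsLocalRing.maximalIdeal A) 0)
      (Coh.structureModule (CohB1.thick f (IsLocalRing.maximalIdeal A) 0)) 2))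
    (n : ℕ) (c : PicM (CohB1.thick f (IsLocalRing.maximalIdeal A) n)) :
    ∃ a : PicM X, PicM.pull (CohB1.thickι f (IsLocalRing.maximalIdeal A) n) a = c := by
  let I := IsLocalRing.maximalIdeal A
  have hcart := isPullback_thickTrans f I
  have hsepX : X.IsSeparated := ⟨by rw [← terminal.comp_from f]; infer_instance⟩
  have : (CohB1.thick f I 0).IsSeparated := ⟨by
    rw [← terminal.comp_from (CohB1.thickι f I 0)]
    have := hsepX.1
    have := isClosedImmersion_thickι f I 0
    infer_instance⟩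
  have hflat : ∀ k, Flat (CohB1.thickToBase f I k) := fun k =>
    inferInstanceAs (Flat (pullback.snd f (CohB1.specQuot I k)))
  have hlift : ∀ (k : ℕ) (d : PicM (CohB1.thick f I k)),
      ∃ d' : PicM (CohB1.thick f I (k + 1)), PicM.pull (CohB1.thickTrans f I k) d' = d := fun k d => by
    obtain ⟨L, hL, rfl⟩ := d.exists_eq_of
    obtain ⟨L', hL', he⟩ := exists_lift_level (fun j => hcart j) hflat h2 k hL
    exact ⟨PicM.of hL', by rw [PicM.pull_of, PicM.of_eq_iff]; exact he⟩
  choose next hnext using hlift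
  let g : ∀ j, PicM (CohB1.thick f I (n + j)) := fun j =>
    Nat.rec (motive := fun j => PicM (CohB1.thick f I (n + j))) c (fun j d => next (n + j) d) j
  have hg : ∀ j, PicM.pull (tr f I (Nat.le_add_right n j)) (g j) = c := fun j => by
    induction j with
    | zero => exact (congrArg (fun φ => PicM.pull φ c) (tr_self f I n)).trans (PicM.pull_id c)
    | succ j ih =>
      show PicM.pull _ (next (n + j) (g j)) = c
      rw [← tr_tr f I (Nat.le_add_right n j) (Nat.le_succ (n + j)), ← PicM.pull_pull, tr_succ, hnext, ih]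
  obtain ⟨a, ha⟩ := exists_of_levels f (fun k => PicM.pull (tr f I (Nat.le_add_left k n)) (g k)) fun k => by
    rw [← tr_succ, PicM.pull_pull, tr_tr, ← tr_tr f I (Nat.le_add_left k n) (Nat.le_succ (n + k)), ← PicM.pull_pull]
    show PicM.pull _ (PicM.pull _ (next (n + k) (g k))) = _
    rw [tr_succ, hnext]
  exact ⟨a, (ha n).trans (hg n)⟩

variable [IsDomain A]

/-- A class trivial modulo `p ^ (i+1)` is a `p ^ i`-th power. -/
theorem exists_root (p : ℕ) (hp : p.Prime) (hp2 : 2 < p) (hI : IsLocalRing.maximalIdeal A = Ideal.span {(p : A)})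
    (hp0 : (p : A) ≠ 0)
    (h2 : Subsingleton (Coh.HH (CohB1.thick f (IsLocalRing.maximalIdeal A) 0)
      (Coh.structureModule (CohB1.thick f (IsLocalRing.maximalIdeal A) 0)) 2))
    (i : ℕ) (c : PicM X) (hc : PicM.pull (CohB1.thickι f (IsLocalRing.maximalIdeal A) i) c = 1) :
    ∃ d : PicM X, d ^ p ^ i = c := by
  let I := IsLocalRing.maximalIdeal A
  let ι := fun k => CohB1.thickι f I k
  have : X.IsSeparated := ⟨by rw [← terminal.comp_from f]; infer_instance⟩
  have step : ∀ (k : ℕ) (C : PicM X), PicM.pull (ι (k + i)) C = 1 → ∃ e r : PicM X, PicM.pull (ι k) e = 1 ∧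
      e ^ p ^ i * r = 1 ∧ PicM.pull (ι (k + 1 + i)) (C * r) = 1 := by
    intro k C hC
    have hle : k + i ≤ k + 1 + i := by omega
    have hlm : k + 1 ≤ k + 1 + i := by omega
    have := isClosedImmersion_tr f I hle
    have := surjective_tr f I hle
    have := isClosedImmersion_tr f I hlm
    have := surjective_tr f I hlm
    obtain ⟨d, hd, hroot⟩ := exists_root_step p i (k + 1) (tr f I hle) (tr f I hlm) (CohB1.thickTrans f I k)
      (Basic f I (k + 1 + i)) hp hp2 (by omega) (fun U h => h.isAffineOpen) (fun U V h h' => h.inf f I h')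
      (exists_basic f I _) (fun U => natCast_pow_eq_zero f I p hI _ U) (fun U => natCast_pow_eq_zero f I p hI _ U)
      (fun U => natCast_pow_eq_zero f I p hI _ U)
      (fun U hU y hy => by
        obtain ⟨z, hz⟩ := exists_eq_of_app_tr f I p hI hle hU y hy
        exact ⟨z, hz.trans (congrArg (fun t => (p : Γ(CohB1.thick f I (k + 1 + i), U)) ^ t * z) (by omega : k + i + 1 = k + 1 + i))⟩)
      (fun U hU y hy => exists_eq_of_app_tr f I p hI hlm hU y hy)
      (fun U hU y hy => exists_eq_of_pow_mul f I p hI hp0 _ hU y hy)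
      (PicM.pull (ι (k + 1 + i)) C) (by rw [PicM.pull_pull, tr_thickι]; exact hC)
    obtain ⟨e, he⟩ := exists_pull_eq f h2 (k + 1) d
    have he' := hroot (PicM.pull (ι (k + 1 + i)) e) (by rw [PicM.pull_pull, tr_thickι]; exact he)
    obtain ⟨r, hr⟩ := PicM.exists_mul_eq_one (e ^ p ^ i)
    refine ⟨e, r, ?_, hr, ?_⟩
    · show PicM.pull (CohB1.thickι f I k) e = 1
      rw [← thickTrans_thickι, ← PicM.pull_pull, he]
      exact hd
    · rw [map_mul, ← he', ← map_pow, ← map_mul, hr, map_one]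
  choose! e r he hr hC using step
  let S : ℕ → PicM X × PicM X := fun k =>
    Nat.rec (motive := fun _ => PicM X × PicM X) (1, c) (fun k s => (s.1 * e k s.2, s.2 * r k s.2)) k
  have hS : ∀ k, PicM.pull (ι (k + i)) (S k).2 = 1 ∧ (S k).1 ^ p ^ i * (S k).2 = c := fun k => by
    induction k with
    | zero =>
      refine ⟨?_, by simp [S]⟩
      show PicM.pull (ι (0 + i)) c = 1
      rw [Nat.zero_add]
      exact hc
    | succ k ih =>
      refine ⟨hC k _ ih.1, ?_⟩
      show ((S k).1 * e k (S k).2) ^ p ^ i * ((S k).2 * r k (S k).2) = c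
      rw [mul_pow, mul_mul_mul_comm, hr k _ ih.1, mul_one, ih.2]
  obtain ⟨d, hd⟩ := exists_of_levels f (fun k => PicM.pull (ι k) (S k).1) fun k => by
    show PicM.pull _ (PicM.pull _ ((S k).1 * e k (S k).2)) = _
    rw [PicM.pull_pull, thickTrans_thickι, map_mul, he k _ (hS k).1, mul_one]
  obtain ⟨d', hd'⟩ := PicM.exists_mul_eq_one (d ^ p ^ i)
  refine ⟨d, (PicM.eq_of_mul_inv hd' (eq_one_of_levels f _ fun k => ?_)).symm⟩
  have hk : PicM.pull (ι k) c = PicM.pull (ι k) d ^ p ^ i := by
    rw [hd k, ← (hS k).2, map_mul, map_pow,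
      show PicM.pull (ι k) (S k).2 = 1 by
        show PicM.pull (CohB1.thickι f I k) _ = 1
        rw [← tr_thickι f I (Nat.le_add_right k i), ← PicM.pull_pull, (hS k).1, map_one],
      mul_one]
  show PicM.pull (ι k) (c * d') = 1
  rw [map_mul, hk, ← map_pow, ← map_mul, hd', map_one]

end Groth.Agent.PicThk27

namespace Groth.Agent.PicThk27

/-- The prelude's Picard group as the monoid of classes. -/
def toPicM {Y : Scheme.{u}} [PicGrp.Law Y] : PicLoc.PicSet Y →* PicM Y where
  toFun a := ⟨a.1, a.2⟩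
  map_one' := PicM.ext PicGrp.one_val
  map_mul' a b := PicM.ext (PicGrp.mul_val a b)

theorem toPicM_bijective {Y : Scheme.{u}} [PicGrp.Law Y] : Function.Bijective (toPicM (Y := Y)) :=
  ⟨fun _ _ h => Subtype.ext (congrArg PicM.val h), fun c => ⟨⟨c.val, c.prop⟩, rfl⟩⟩

theorem toPicM_pullHom {Y Z : Scheme.{u}} [PicGrp.Law Y] [PicGrp.Law Z] (g : Z ⟶ Y) (h : PicGrp.PullMul g)
    (a : PicLoc.PicSet Y) : toPicM (PicGrp.pullHom g h a) = PicM.pull g (toPicM a) := rfl

end Groth.Agent.PicThk27
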