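import Groth.Agent.Models7.PicRoot
import Groth.Agent.PicLib.LiftGen

/-!
# `p`-power roots of invertible classes close to the trivial one

For `p` odd, a class on a thickening `Y` (killed by `p ^ (m+i+1)`) trivial modulo `p ^ (m+i)` is the
`p ^ i`-th power of every lift of a suitable class modulo `p ^ (m+1)` which is trivial modulo `p ^ m`.
-/

set_option autoImplicit false
set_option linter.style.haveILetI false
set_option backward.isDefEq.respectTransparency.types false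
set_option maxHeartbeats 1000000

universe u

open CategoryTheory CategoryTheory.Limits AlgebraicGeometry Opposite TopologicalSpace
open Groth.Agent.Coherent Groth.Agent.PicLib Groth.Agent.AmpleLib Groth.Agent.FlatMorThick

noncomputable section

namespace Groth.Agent.PicThk27

/-- One `p`-th power. -/
theorem exists_pow_one_add {R : Type*} [CommRing R] {p : ℕ} (hp : p.Prime) (hp2 : 2 < p) {m : ℕ} (hm : 1 ≤ m)
    (z : R) : ∃ r, (1 + (p : R) ^ m * z) ^ p = 1 + (p : R) ^ (m + 1) * z + (p : R) ^ (m + 2) * r := by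
  have key : ∀ (n : ℕ) (y : R), ∃ r, (1 + y) ^ n = 1 + (n : R) * y + (n.choose 2 : R) * y ^ 2 + y ^ 3 * r := by
    intro n y
    induction n with
    | zero => exact ⟨0, by simp⟩
    | succ n ih =>
      obtain ⟨r, hr⟩ := ih
      exact ⟨(n.choose 2 : R) + r * (1 + y), by
        rw [pow_succ, hr, Nat.choose_succ_succ, Nat.choose_one_right]; push_cast; ring⟩
  obtain ⟨c, hc⟩ := hp.dvd_choose_self (two_ne_zero) hp2
  obtain ⟨r, hr⟩ := key p ((p : R) ^ m * z)
  obtain ⟨l, rfl⟩ : ∃ l, m = l + 1 := ⟨m - 1, by omega⟩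
  refine ⟨(c : R) * z ^ 2 * (p : R) ^ l + z ^ 3 * r * (p : R) ^ (2 * l), ?_⟩
  rw [hr, hc]; push_cast; ring

theorem exists_pow_pow_one_add {R : Type*} [CommRing R] {p : ℕ} (hp : p.Prime) (hp2 : 2 < p) {m : ℕ}
    (hm : 1 ≤ m) (z : R) : ∀ i : ℕ, ∃ r,
      (1 + (p : R) ^ m * z) ^ p ^ i = 1 + (p : R) ^ (m + i) * z + (p : R) ^ (m + i + 1) * r
  | 0 => ⟨0, by simp⟩
  | i + 1 => by
    obtain ⟨r, hr⟩ := exists_pow_pow_one_add hp hp2 hm z i
    obtain ⟨s, hs⟩ := exists_pow_one_add hp hp2 (m := m + i) (by omega) (z + (p : R) * r)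
    refine ⟨r + s, ?_⟩
    have e : 1 + (p : R) ^ (m + i) * z + (p : R) ^ (m + i + 1) * r =
        1 + (p : R) ^ (m + i) * (z + (p : R) * r) := by ring
    rw [pow_succ p i, pow_mul, hr, e, hs]
    ring

theorem app_res' {S T : Scheme.{u}} (j : T ⟶ S) {U V : S.Opens} (h : V ≤ U) (r : Γ(S, U)) :
    j.app V (PicLib.res h r) = PicLib.res (j.preimage_mono h) (j.app U r) :=
  ConcreteCategory.congr_hom (j.naturality (homOfLE h).op) r

/-- A class trivial on a surjective closed subscheme has generators whose transition functions are `1`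
on it. -/
theorem exists_gens {Y Z : Scheme.{u}} (j : Z ⟶ Y) [IsClosedImmersion j] [Surjective j]
    (B : Y.Opens → Prop) (hB : ∀ U, B U → IsAffineOpen U) (hbasis : ∀ (y : Y) (O : Y.Opens), y ∈ O → ∃ U, B U ∧ y ∈ U ∧ U ≤ O)
    {L : Y.Modules} (hL : PicF.IsInvertible L) (e : (Scheme.Modules.pullback j).obj L ≅ Coh.structureModule Z) :
    ∃ (W : Y → Y.Opens) (l : ∀ a, Γ(L, W a)), (∀ a, B (W a)) ∧ (∀ a, a ∈ W a) ∧ (∀ a, IsGen L (W a) (l a)) ∧
      ∃ θ : ∀ a b, Γ(Y, W a ⊓ W b),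
        (∀ a b, resM L (inf_le_left : W a ⊓ W b ≤ W a) (l a) = θ a b • resM L inf_le_right (l b)) ∧
        ∀ a b, j.app _ (θ a b) = 1 := by
  obtain ⟨U, g, hmem, hg⟩ := exists_cover hL
  choose W hBW haW hWU using fun y => hbasis y (U y) (hmem y)
  let l₀ : ∀ a, Γ(L, W a) := fun a => resM L (hWU a) (g a)
  have hl₀ : ∀ a, IsGen L (W a) (l₀ a) := fun a => (hg a).restrict (hWU a)
  let one : ∀ V : Z.Opens, Γ(Coh.structureModule Z, V) := fun V => oneSec V
  have hone : ∀ V : Z.Opens, IsGen (Coh.structureModule Z) V (one V) := fun V => isGen_oneSec V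
  have hσ : ∀ a, IsGen _ (j ⁻¹ᵁ W a) (e.inv.app _ (one (j ⁻¹ᵁ W a))) := fun a => isGen_app_iso e.symm (hone _)
  have hpl : ∀ a, IsGen _ (j ⁻¹ᵁ W a) (pullSec j (l₀ a)) := fun a => isGen_pullSec j (hl₀ a) hL
  let v : ∀ a, Γ(Z, j ⁻¹ᵁ W a) := fun a => (hpl a).coef le_rfl (e.inv.app _ (one (j ⁻¹ᵁ W a)))
  choose u hu using fun a => j.app_surjective (W a) (hB _ (hBW a)) (v a)
  have huu : ∀ a, IsUnit (u a) := fun a => isUnit_of_app j _ (hu a ▸ (hpl a).isUnit_coef (hσ a))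
  let l : ∀ a, Γ(L, W a) := fun a => u a • l₀ a
  have hl : ∀ a, IsGen L (W a) (l a) := fun a => (isGen_smul_iff (huu a)).2 (hl₀ a)
  have hle : ∀ a, pullSec j (l a) = e.inv.app _ (one (j ⁻¹ᵁ W a)) := fun a => by
    have h := (hpl a).coef_spec le_rfl (e.inv.app _ (one (j ⁻¹ᵁ W a)))
    rw [resM_self] at h
    rw [pullSec_smul, hu]
    exact h
  have hres : ∀ a (V : Y.Opens) (h : V ≤ W a), pullSec j (resM L h (l a)) = e.inv.app _ (one (j ⁻¹ᵁ V)) :=
    fun a V h => by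
      rw [← resM_pullSec j h (l a), hle, ← app_resM]
      exact congrArg _ (map_one (PicLib.res (j.preimage_mono h)))
  refine ⟨W, l, hBW, haW, hl, fun a b => (hl b).coef inf_le_right (resM L inf_le_left (l a)),
    fun a b => ((hl b).coef_spec _ _).symm, fun a b => ?_⟩
  have hg := isGen_pullSec j ((hl b).restrict (inf_le_right : W a ⊓ W b ≤ W b)) hL
  refine (hg _ le_rfl).1 ?_
  show _ • resM _ le_rfl _ = _ • resM _ le_rfl _
  rw [resM_self, ← pullSec_smul, (hl b).coef_spec, hres, one_smul, hres]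

variable {Y Z Zm Zl : Scheme.{u}} (p i m : ℕ) (j : Z ⟶ Y) (jm : Zm ⟶ Y) (jl : Zl ⟶ Zm)
  [IsClosedImmersion j] [Surjective j] [IsClosedImmersion jm] [Surjective jm]
  (B : Y.Opens → Prop)

/-- The key step: `c` trivial modulo `p ^ (m+i)` is a `p ^ i`-th power of any lift of some `d`. -/
theorem exists_root_step (hp : p.Prime) (hp2 : 2 < p) (hm : 1 ≤ m) (hB : ∀ U, B U → IsAffineOpen U)
    (hinf : ∀ U V, B U → B V → B (U ⊓ V))
    (hbasis : ∀ (y : Y) (O : Y.Opens), y ∈ O → ∃ U, B U ∧ y ∈ U ∧ U ≤ O)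
    (hY : ∀ U : Y.Opens, (p : Γ(Y, U)) ^ (m + i + 1) = 0)
    (hZm : ∀ V : Zm.Opens, (p : Γ(Zm, V)) ^ (m + 1) = 0)
    (hZl : ∀ V : Zl.Opens, (p : Γ(Zl, V)) ^ m = 0)
    (hker : ∀ U, B U → ∀ y, j.app U y = 0 → ∃ z, y = (p : Γ(Y, U)) ^ (m + i) * z)
    (hkerm : ∀ U, B U → ∀ y, jm.app U y = 0 → ∃ z, y = (p : Γ(Y, U)) ^ (m + 1) * z)
    (htor : ∀ U, B U → ∀ y, (p : Γ(Y, U)) ^ (m + i) * y = 0 → ∃ z, y = (p : Γ(Y, U)) * z)
    (c : PicM Y) (hc : PicM.pull j c = 1) :
    ∃ d : PicM Zm, PicM.pull jl d = 1 ∧ ∀ e : PicM Y, PicM.pull jm e = d → e ^ p ^ i = c := by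
  obtain ⟨L, hL, rfl⟩ := PicM.exists_eq_of c
  rw [PicM.pull_of, PicM.of_eq_one_iff] at hc
  obtain ⟨W, l, hBW, haW, hl, θ, hθ, hθ1⟩ := exists_gens j B hB hbasis hL hc.some
  have hcov : ⨆ a, W a = ⊤ := top_le_iff.1 fun x _ => Opens.mem_iSup.2 ⟨x, haW x⟩
  choose h hh using fun a b => hker _ (hinf _ _ (hBW a) (hBW b)) (θ a b - 1) (by rw [map_sub, hθ1, map_one, sub_self])
  -- the cocycle modulo `p ^ (m+1)`
  let η : ∀ a b, Γ(Y, W a ⊓ W b) := fun a b => 1 + (p : Γ(Y, W a ⊓ W b)) ^ m * h a b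
  have hηu : ∀ a b, IsUnit (η a b) := fun a b => by
    refine IsNilpotent.isUnit_one_add ⟨m + i + 1, ?_⟩
    obtain ⟨l, hl⟩ : ∃ l, m * (m + i + 1) = m + i + 1 + l := Nat.exists_eq_add_of_le (Nat.le_mul_of_pos_left _ hm)
    rw [mul_pow, ← pow_mul, hl, pow_add, hY, zero_mul, zero_mul]
  have hco : ∀ a b c (V : Y.Opens) (ha : V ≤ W a) (hb : V ≤ W b) (hc : V ≤ W c), B V →
      jm.app V (PicLib.res (le_inf ha hc) (η a c)) =
        jm.app V (PicLib.res (le_inf ha hb) (η a b)) * jm.app V (PicLib.res (le_inf hb hc) (η b c)) := by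
    intro a b c V ha hb hc hV
    have eθ : PicLib.res (le_inf ha hc) (θ a c) =
        PicLib.res (le_inf ha hb) (θ a b) * PicLib.res (le_inf hb hc) (θ b c) := by
      refine ((hl c).restrict hc _ le_rfl).1 ?_
      show _ • resM _ le_rfl _ = _ • resM _ le_rfl _
      rw [resM_self, mul_smul]
      have e1 := congrArg (resM L (le_inf ha hc)) (hθ a c)
      have e2 := congrArg (resM L (le_inf ha hb)) (hθ a b)
      have e3 := congrArg (resM L (le_inf hb hc)) (hθ b c)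
      rw [resM_smul, resM_resM, resM_resM] at e1 e2 e3
      rw [← e1, ← e3, ← e2]
    have t : ∀ a b, θ a b = 1 + (p : Γ(Y, W a ⊓ W b)) ^ (m + i) * h a b := fun a b => by rw [← hh a b]; ring
    rw [t a c, t a b, t b c] at eθ
    simp only [η, map_add, map_one, map_mul, map_pow, map_natCast] at eθ ⊢
    generalize PicLib.res (le_inf ha hc) (h a c) = x at eθ ⊢
    generalize PicLib.res (le_inf ha hb) (h a b) = y at eθ ⊢
    generalize PicLib.res (le_inf hb hc) (h b c) = w at eθ ⊢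
    have h2 : ((p : Γ(Y, V)) ^ (m + i)) * ((p : Γ(Y, V)) ^ (m + i)) = 0 := by
      obtain ⟨l, hl⟩ : ∃ l, (m + i) + (m + i) = m + i + 1 + l := ⟨m + i - 1, by omega⟩
      rw [← pow_add, hl, pow_add, hY, zero_mul]
    obtain ⟨z, hz⟩ := htor V hV (x - y - w) (by linear_combination eθ + (y * w) * h2)
    obtain ⟨l, rfl⟩ : ∃ l, m = l + 1 := ⟨m - 1, by omega⟩
    have hz' : x = y + w + (p : Γ(Y, V)) * z := by linear_combination hz
    rw [hz', map_add, map_add, map_mul, map_natCast]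
    linear_combination (jm.app V z - (p : Γ(Zm, jm ⁻¹ᵁ V)) ^ l * jm.app V y * jm.app V w) *
      hZm (jm ⁻¹ᵁ V)
  obtain ⟨M', s', hM', hgen, hsη⟩ := CocycleGlue.exists_invertible (fun a => jm ⁻¹ᵁ W a)
    (fun a b => ((hηu a b).map (jm.app (W a ⊓ W b)).hom).unit)
    (fun x a b c => by
      have hBV : B (W a.1 ⊓ W b.1 ⊓ W c.1) := hinf _ _ (hinf _ _ (hBW _) (hBW _)) (hBW _)
      have hx : x ∈ jm ⁻¹ᵁ (W a.1 ⊓ W b.1 ⊓ W c.1) := ⟨⟨a.2, b.2⟩, c.2⟩
      have ha : W a.1 ⊓ W b.1 ⊓ W c.1 ≤ W a.1 := inf_le_left.trans inf_le_left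
      have hb : W a.1 ⊓ W b.1 ⊓ W c.1 ≤ W b.1 := inf_le_left.trans inf_le_right
      have hc : W a.1 ⊓ W b.1 ⊓ W c.1 ≤ W c.1 := inf_le_right
      show Zm.presheaf.germ (jm ⁻¹ᵁ (W a.1 ⊓ W c.1)) x ⟨a.2, c.2⟩ (jm.app _ (η a.1 c.1)) =
        Zm.presheaf.germ (jm ⁻¹ᵁ (W a.1 ⊓ W b.1)) x ⟨a.2, b.2⟩ (jm.app _ (η a.1 b.1)) *
          Zm.presheaf.germ (jm ⁻¹ᵁ (W b.1 ⊓ W c.1)) x ⟨b.2, c.2⟩ (jm.app _ (η b.1 c.1))
      rw [← VarietyLib.StarGlue.germ_resO (jm.preimage_mono (le_inf ha hc)) hx,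
        ← VarietyLib.StarGlue.germ_resO (jm.preimage_mono (le_inf ha hb)) hx,
        ← VarietyLib.StarGlue.germ_resO (jm.preimage_mono (le_inf hb hc)) hx, ← map_mul]
      refine congrArg _ ?_
      show PicLib.res _ (jm.app _ _) = PicLib.res _ (jm.app _ _) * PicLib.res _ (jm.app _ _)
      rw [← app_res', ← app_res', ← app_res']
      exact hco _ _ _ _ ha hb hc hBV)
    (top_le_iff.1 fun x _ => Opens.mem_iSup.2 ⟨jm x, haW (jm x)⟩)
  refine ⟨PicM.of hM', ?_, fun e he => ?_⟩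
  · rw [PicM.pull_of, PicM.of_eq_one_iff]
    let P := (Scheme.Modules.pullback jl).obj M'
    let U : Y → Zl.Opens := fun a => jl ⁻¹ᵁ jm ⁻¹ᵁ W a
    let t : ∀ a, Γ(P, U a) := fun a => pullSec jl (s' a)
    have ht : ∀ a, IsGen P (U a) (t a) := fun a => isGen_pullSec jl (hgen a) hM'
    obtain ⟨e', -⟩ := exists_iso_of_gens U (top_le_iff.1 fun x _ => Opens.mem_iSup.2 ⟨jm (jl x), haW _⟩) t ht
      (fun a => oneSec (U a)) (fun a => isGen_oneSec _)
      (fun a b V hi hj c hc => by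
        have hV : V ≤ jl ⁻¹ᵁ jm ⁻¹ᵁ (W a ⊓ W b) := fun z hz => ⟨hi hz, hj hz⟩
        have e1 : jl.app _ (jm.app (W a ⊓ W b) (η a b)) = 1 := by
          simp only [η, map_add, map_one, map_mul, map_pow, map_natCast, hZl, zero_mul, add_zero]
        have h0 := congrArg (pullSec jl) (hsη a b)
        erw [pullSec_smul, e1, one_smul, ← resM_pullSec jl, ← resM_pullSec jl] at h0
        have hab := congrArg (resM P hV) h0
        erw [resM_resM, resM_resM] at hab
        have hc1 : c = 1 := ((ht b) V hj).1 (hc.symm.trans (hab.trans (one_smul _ _).symm))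
        subst hc1
        rw [one_smul]
        exact (map_one (PicLib.res hi)).trans (map_one (PicLib.res hj)).symm)
    exact ⟨e'⟩
  · obtain ⟨M, hM, rfl⟩ := PicM.exists_eq_of e
    rw [PicM.pull_of, PicM.of_eq_iff] at he
    obtain ⟨ε⟩ := he
    rw [← PicM.of_tensorPow hM, PicM.of_eq_iff]
    have : Coh.IsQCoh M := (isQCoh_of_isInvertible hM)
    choose t ht using fun a => surjective_pullSec jm (hB _ (hBW a)) (L := M) (ε.inv.app _ (s' a))
    have htg : ∀ a, IsGen M (W a) (t a) := fun a => isGen_of_pullSec jm hM (by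
      rw [ht]; exact isGen_app_iso ε.symm (hgen a))
    let φ : ∀ a b, Γ(Y, W a ⊓ W b) := fun a b => (htg b).coef inf_le_right (resM M inf_le_left (t a))
    have hφ : ∀ a b, φ a b • resM M (inf_le_right : W a ⊓ W b ≤ W b) (t b) = resM M inf_le_left (t a) :=
      fun a b => (htg b).coef_spec _ _
    have hres : ∀ a (V : Y.Opens) (hV : V ≤ W a),
        pullSec jm (resM M hV (t a)) = ε.inv.app _ (resM M' (jm.preimage_mono hV) (s' a)) := fun a V hV => by
      rw [← resM_pullSec jm hV (t a), ht, app_resM]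
    have hφη : ∀ a b, jm.app _ (φ a b) = jm.app _ (η a b) := fun a b => by
      have hg := isGen_pullSec jm ((htg b).restrict (inf_le_right : W a ⊓ W b ≤ W b)) hM
      refine (hg _ le_rfl).1 ?_
      show _ • resM _ le_rfl _ = _ • resM _ le_rfl _
      rw [resM_self, ← pullSec_smul, hφ, hres, hres, ← Scheme.Modules.Hom.app_smul]
      exact congrArg _ (hsη a b)
    have hpow : ∀ a b, φ a b ^ p ^ i = θ a b := fun a b => by
      obtain ⟨z, hz⟩ := hkerm _ (hinf _ _ (hBW a) (hBW b)) (φ a b - η a b) (by rw [map_sub, hφη, sub_self])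
      obtain ⟨r, hr⟩ := exists_pow_pow_one_add hp hp2 hm (h a b + (p : Γ(Y, W a ⊓ W b)) * z) i
      have hφ' : φ a b = 1 + (p : Γ(Y, W a ⊓ W b)) ^ m * (h a b + (p : Γ(Y, W a ⊓ W b)) * z) := by
        linear_combination hz
      rw [hφ', hr]
      linear_combination (z + r) * hY (W a ⊓ W b) - hh a b
    obtain ⟨e', -⟩ := exists_iso_of_gens W hcov (fun a => powSec (t a) (p ^ i)) (fun a => isGen_powSec (htg a) _)
      l hl (fun a b V hi hj c hc => by
        have hV : V ≤ W a ⊓ W b := le_inf hi hj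
        have hrel : resM M hi (t a) = PicLib.res hV (φ a b) • resM M hj (t b) := by
          have h := congrArg (resM M hV) (hφ a b)
          rw [resM_smul, resM_resM, resM_resM] at h
          exact h.symm
        rw [resM_powSec, resM_powSec, hrel, powSec_smul] at hc
        have hc' : PicLib.res hV (φ a b) ^ p ^ i = c :=
          ((isGen_powSec ((htg b).restrict hj) _) V le_rfl).1 (by simpa only [resM_self] using hc)
        have h := congrArg (resM L hV) (hθ a b)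
        rw [resM_smul, resM_resM, resM_resM] at h
        rw [← hc', ← map_pow, hpow]
        exact h)
    exact ⟨e'⟩

end Groth.Agent.PicThk27
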